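import Cfsg.Agent.Lib.Recog.NineFrobenius.Triangle
import Cfsg.Agent.Lib.CT.Orthogonality

/-!
An elementary abelian subgroup of order nine which is the centralizer of each of its non-identity
elements: conjugacy and products in the classes of elements of order three.
-/

set_option autoImplicit false
set_option linter.unusedSectionVars false

namespace Cfsg.Agent.NineFrobenius

open Subgroup
open Cfsg.Agent

universe u

variable {G : Type u} [Group G]

/-- The local hypotheses. -/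
structure Hyp (S : Subgroup G) : Prop where
  card : Nat.card S = 9
  exp : ∀ a ∈ S, a ^ 3 = 1
  cent : ∀ s ∈ S, s ≠ 1 → centralizer ({s} : Set G) = S
  sylow : ∀ y : G, orderOf y = 3 → ∃ g : G, g * y * g⁻¹ ∈ S
  inS : ∀ n ∈ normalizer (S : Set G), n ^ 3 = 1 → n ∈ S

namespace Hyp

variable {S : Subgroup G}

theorem commute (h : Hyp S) {a b : G} (ha : a ∈ S) (hb : b ∈ S) : Commute a b := by
  by_cases ha1 : a = 1
  · subst ha1; exact Commute.one_left b
  exact (mem_centralizer_singleton_iff.mp ((h.cent a ha ha1).symm ▸ hb)).symm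

theorem mem_of_commute (h : Hyp S) {s t : G} (hs : s ∈ S) (hs1 : s ≠ 1) (hc : Commute t s) :
    t ∈ S := by
  have : t ∈ centralizer ({s} : Set G) := mem_centralizer_singleton_iff.mpr hc.eq
  rwa [h.cent s hs hs1] at this

theorem orderOf_eq (h : Hyp S) {s : G} (hs : s ∈ S) (hs1 : s ≠ 1) : orderOf s = 3 :=
  haveI : Fact (Nat.Prime 3) := ⟨Nat.prime_three⟩
  orderOf_eq_prime (h.exp s hs) hs1

theorem sq_ne (h : Hyp S) {s : G} (hs : s ∈ S) (hs1 : s ≠ 1) : s⁻¹ ≠ s := fun e => by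
  have h2 : s ^ 2 = 1 := by rw [pow_two]; nth_rewrite 1 [← e]; exact inv_mul_cancel _
  have := h.orderOf_eq hs hs1 ▸ orderOf_dvd_of_pow_eq_one h2
  omega

/-- An element conjugating `s ∈ S` into `S` normalizes `S`. -/
theorem mem_normalizer [Finite G] (h : Hyp S) {s g : G} (hs : s ∈ S) (hs1 : s ≠ 1)
    (hg : g * s * g⁻¹ ∈ S) : g ∈ normalizer (S : Set G) := by
  have hne : g * s * g⁻¹ ≠ 1 := fun e => hs1 (conj_eq_one_iff.mp e)
  refine mem_normalizer_iff.mpr fun t => ⟨fun ht => h.mem_of_commute hg hne ?_, fun ht => ?_⟩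
  · exact (h.commute ht hs).map (MulAut.conj g)
  · have := (h.commute ht hg).map (MulAut.conj g⁻¹)
    simp [mul_assoc] at this
    exact h.mem_of_commute hs hs1 this

theorem conj_iff [Finite G] (h : Hyp S) {s t : G} (hs : s ∈ S) (hs1 : s ≠ 1) (ht : t ∈ S) :
    IsConj s t ↔ ∃ n ∈ normalizer (S : Set G), n * s * n⁻¹ = t := by
  refine ⟨fun hc => ?_, fun ⟨n, _, hn⟩ => isConj_iff.mpr ⟨n, hn⟩⟩
  obtain ⟨g, hg⟩ := isConj_iff.mp hc
  exact ⟨g, h.mem_normalizer hs hs1 (hg ▸ ht), hg⟩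

/-- Products of order three come from `S`, or from one class and its inverse. -/
theorem triangle [Finite G] (h : Hyp S) {a b : G} (ha : orderOf a = 3) (hb : b ^ 3 = 1)
    (hab : (a * b) ^ 3 = 1) : Commute a b ∨ (IsConj a b ∧ IsConj a⁻¹ (a * b)) := by
  classical
  have ha3 : a ^ 3 = 1 := ha ▸ pow_orderOf_eq_one a
  obtain ⟨hc, h2, h1, hb1⟩ := triangle_rel ha3 hb hab
  set t0 := a⁻¹ * b with ht0
  set t2 := a * b * a with ht2
  set A := closure ({t0, t2} : Set G) with hA
  have m0 : t0 ∈ A := subset_closure (by simp)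
  have m2 : t2 ∈ A := subset_closure (by simp)
  have hAc : ∀ x ∈ A, ∀ y ∈ A, Commute x y := by
    intro x hx y hy
    induction hx, hy using closure_induction₂ with
    | mem x y hx hy =>
      simp only [Set.mem_insert_iff, Set.mem_singleton_iff] at hx hy
      rcases hx with rfl | rfl <;> rcases hy with rfl | rfl
      · exact Commute.refl _
      · exact hc
      · exact hc.symm
      · exact Commute.refl _
    | one_left x hx => exact Commute.one_left x
    | one_right x hx => exact Commute.one_right x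
    | mul_left x y z _ _ _ e1 e2 => exact e1.mul_left e2
    | mul_right x y z _ _ _ e1 e2 => exact e1.mul_right e2
    | inv_left x y _ _ e => exact e.inv_left
    | inv_right x y _ _ e => exact e.inv_right
  have hinv : ∀ x ∈ A, a * x * a⁻¹ ∈ A := by
    have : A ≤ A.comap (MulAut.conj a).toMonoidHom := by
      refine (closure_le _).mpr ?_
      rintro x (rfl | rfl)
      · show a * t0 * a⁻¹ ∈ A
        rw [eq_inv_of_mul_eq_one_left h1]
        exact inv_mem (mul_mem m0 m2)
      · show a * t2 * a⁻¹ ∈ A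
        rw [h2]; exact m0
    exact fun x hx => this hx
  by_cases h3 : 3 ∣ Nat.card A
  · left
    haveI : Fact (Nat.Prime 3) := ⟨Nat.prime_three⟩
    obtain ⟨⟨y, hy⟩, hyo'⟩ := exists_prime_orderOf_dvd_card' (G := A) 3 h3
    have hyo : orderOf y = 3 := (Subgroup.orderOf_coe (⟨y, hy⟩ : A)).trans hyo'
    obtain ⟨g, hg⟩ := h.sylow y hyo
    have hne : g * y * g⁻¹ ≠ 1 := fun e => by
      rw [conj_eq_one_iff.mp e, orderOf_one] at hyo; omega
    have key : ∀ x, Commute x y → g * x * g⁻¹ ∈ S := fun x hx =>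
      h.mem_of_commute hg hne (hx.map (MulAut.conj g))
    have hay := key _ (hAc _ (hinv y hy) y hy)
    have ha' : g * a * g⁻¹ ∈ S := by
      refine h.inS _ (h.mem_normalizer hg hne ?_) (by rw [conj_pow, ha3]; group)
      rwa [show g * a * g⁻¹ * (g * y * g⁻¹) * (g * a * g⁻¹)⁻¹ = g * (a * y * a⁻¹) * g⁻¹ by group]
    have hb' : g * b * g⁻¹ ∈ S := by
      have := mul_mem ha' (key _ (hAc _ m0 y hy))
      rwa [show g * a * g⁻¹ * (g * t0 * g⁻¹) = g * b * g⁻¹ by rw [ht0]; group] at this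
    have := (h.commute ha' hb').map (MulAut.conj g⁻¹)
    simpa [mul_assoc] using this
  · right
    have hfix : ∀ x ∈ A, Commute x a → x = 1 := by
      intro x hx hxa
      obtain ⟨g, hg⟩ := h.sylow a ha
      have hne : g * a * g⁻¹ ≠ 1 := fun e => by
        rw [conj_eq_one_iff.mp e, orderOf_one] at ha; omega
      have := h.exp _ (h.mem_of_commute hg hne (hxa.map (MulAut.conj g)))
      rw [show MulAut.conj g x = g * x * g⁻¹ from rfl, conj_pow, conj_eq_one_iff] at this
      refine orderOf_eq_one_iff.mp ((Nat.dvd_prime Nat.prime_three).mp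
        (orderOf_dvd_of_pow_eq_one this) |>.resolve_right fun e => h3 ?_)
      exact e ▸ orderOf_dvd_natCard A hx
    have conjTo : ∀ c : G, (∀ x ∈ A, c * x * c⁻¹ ∈ A) → (∀ x, Commute x c → Commute x a) →
        ∀ w ∈ A, IsConj c (w * c) := by
      intro c hc hca w hw
      let f : A → A := fun x => ⟨(x : G)⁻¹ * (c * x * c⁻¹), mul_mem (inv_mem x.2) (hc _ x.2)⟩
      have hf : Function.Injective f := by
        intro x y hxy
        have e : (x : G)⁻¹ * (c * x * c⁻¹) = (y : G)⁻¹ * (c * y * c⁻¹) := congrArg Subtype.val hxy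
        have hcx := (hAc _ y.2 _ (inv_mem x.2)).eq
        refine Subtype.ext (inv_mul_eq_one.mp (hfix _ (mul_mem (inv_mem x.2) y.2) (hca _ ?_))).symm.symm
        show (x : G)⁻¹ * y * c = c * ((x : G)⁻¹ * y)
        rw [← hcx]
        calc (y : G) * (x : G)⁻¹ * c = y * ((x : G)⁻¹ * (c * x * c⁻¹)) * c * (x : G)⁻¹ := by group
          _ = y * ((y : G)⁻¹ * (c * y * c⁻¹)) * c * (x : G)⁻¹ := by rw [e]
          _ = c * ((y : G) * (x : G)⁻¹) := by group
      obtain ⟨x, hx⟩ := Finite.injective_iff_surjective.mp hf ⟨w, hw⟩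
      refine isConj_iff.mpr ⟨(x : G)⁻¹, ?_⟩
      have e : (x : G)⁻¹ * (c * x * c⁻¹) = w := congrArg Subtype.val hx
      rw [← e]; group
    have hinv' : ∀ x ∈ A, a⁻¹ * x * a⁻¹⁻¹ ∈ A := fun x hx => by
      have := hinv _ (hinv x hx)
      have ha' : a * a = a⁻¹ := eq_inv_of_mul_eq_one_left (by rw [← ha3]; simp [pow_succ, mul_assoc])
      rwa [show a * (a * x * a⁻¹) * a⁻¹ = (a * a) * x * (a * a)⁻¹ by group, ha'] at this
    refine ⟨?_, ?_⟩
    · have := conjTo a hinv (fun x hx => hx) _ (hinv t0 m0)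
      rwa [show a * t0 * a⁻¹ * a = b by rw [ht0]; group] at this
    · have := conjTo a⁻¹ hinv' (fun x hx => by simpa using hx.inv_right) t2 m2
      rwa [show t2 * a⁻¹ = a * b by rw [ht2]; group] at this

variable [Fintype G]

theorem card_class (h : Hyp S) {s : G} (hs : s ∈ S) (hs1 : s ≠ 1) :
    Nat.card {x : G // IsConj s x} * 9 = Nat.card G := by
  have := CT.card_conj_class_mul_centralizer s
  rwa [h.cent s hs hs1, h.card] at this

open Classical in
/-- The pairs of a class multiplication constant. -/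
theorem pairs_eq (h : Hyp S) {g g' x : G} (hg : g ∈ S) (hg1 : g ≠ 1) (hg' : g' ^ 3 = 1)
    (hx : x ^ 3 = 1) (hno : ¬ (IsConj g g' ∧ IsConj g⁻¹ x)) :
    Nat.card {a : G // IsConj g' a ∧ IsConj x (g * a)} =
      Nat.card {a : S // IsConj g' (a : G) ∧ IsConj x (g * a)} := by
  have pw : ∀ {u v : G}, IsConj u v → u ^ 3 = 1 → v ^ 3 = 1 := fun {u v} hc hu => by
    obtain ⟨c, rfl⟩ := isConj_iff.mp hc
    rw [conj_pow, hu, mul_one, mul_inv_cancel]
  refine Nat.card_congr (Equiv.ofBijective (fun a => ⟨⟨a.1, ?_⟩, a.2⟩) ⟨?_, ?_⟩)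
  · rcases h.triangle (h.orderOf_eq hg hg1) (pw a.2.1 hg') (pw a.2.2 hx) with hc | ⟨h1, h2⟩
    · exact h.mem_of_commute hg hg1 hc.symm
    · exact absurd ⟨h1.trans a.2.1.symm, h2.trans a.2.2.symm⟩ hno
  · intro a b hab
    exact Subtype.ext (congrArg (fun t => ((t.1 : S) : G)) hab)
  · rintro ⟨⟨a, ha⟩, hp⟩
    exact ⟨⟨a, hp⟩, rfl⟩

open Classical in
/-- The size of a class inside `S`. -/
theorem card_fused (h : Hyp S) {s : G} (hs : s ∈ S) (hs1 : s ≠ 1) :
    Nat.card (normalizer (S : Set G)) = 9 * Nat.card {v : S // IsConj s (v : G)} := by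
  set N := normalizer (S : Set G)
  have hSN : S ≤ N := le_normalizer
  have hcj : ∀ n : N, (n : G) * s * (n : G)⁻¹ ∈ S := fun n => (mem_normalizer_iff.mp n.2 s).mp hs
  let f : N → {v : S // IsConj s (v : G)} := fun n => ⟨⟨_, hcj n⟩, isConj_iff.mpr ⟨n, rfl⟩⟩
  have hfib : ∀ v, Nat.card {n : N // f n = v} = 9 := by
    rintro ⟨⟨v, hv⟩, hc⟩
    obtain ⟨n₀, hn₀, he⟩ := (h.conj_iff hs hs1 hv).mp hc
    rw [← h.card]
    refine Nat.card_congr (Equiv.ofBijective (fun n => ⟨n₀⁻¹ * (n.1 : G), ?_⟩) ⟨?_, ?_⟩)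
    · refine h.mem_of_commute hs hs1 ?_
      have e : ((n.1 : N) : G) * s * ((n.1 : N) : G)⁻¹ = n₀ * s * n₀⁻¹ := by
        rw [he]; exact congrArg (fun t => ((t.1 : S) : G)) n.2
      show n₀⁻¹ * ((n.1 : N) : G) * s = s * (n₀⁻¹ * ((n.1 : N) : G))
      calc n₀⁻¹ * ((n.1 : N) : G) * s
          = n₀⁻¹ * (((n.1 : N) : G) * s * ((n.1 : N) : G)⁻¹) * ((n.1 : N) : G) := by group
        _ = _ := by rw [e]; group
    · intro a b hab
      refine Subtype.ext (Subtype.ext ?_)
      exact mul_left_cancel (congrArg (fun t : S => (t : G)) hab)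
    · rintro ⟨t, ht⟩
      refine ⟨⟨⟨n₀ * t, mul_mem hn₀ (hSN ht)⟩, ?_⟩, Subtype.ext (by simp)⟩
      refine Subtype.ext (Subtype.ext ?_)
      show n₀ * t * s * (n₀ * t)⁻¹ = v
      rw [← he, mul_inv_rev, mul_assoc n₀ t s, (h.commute ht hs).eq]
      group
  rw [← Nat.card_congr (Equiv.sigmaFiberEquiv f), Nat.card_sigma,
    Finset.sum_congr rfl fun v _ => hfib v, Finset.sum_const, Finset.card_univ,
    smul_eq_mul, Nat.card_eq_fintype_card (α := {v : S // IsConj s (v : G)}), mul_comm]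

/-- With a normalizer of even order every element of `S` is inverted. -/
theorem real (h : Hyp S) (h2 : 2 ∣ Nat.card (normalizer (S : Set G))) {s : G} (hs : s ∈ S) :
    IsConj s s⁻¹ := by
  haveI : Fact (Nat.Prime 2) := ⟨Nat.prime_two⟩
  obtain ⟨⟨u, hu⟩, huo⟩ := exists_prime_orderOf_dvd_card' (G := normalizer (S : Set G)) 2 h2
  rw [← Subgroup.orderOf_coe] at huo
  have hu2 : u * u = 1 := by rw [← pow_two, ← huo, pow_orderOf_eq_one]
  refine isConj_iff.mpr ⟨u, ?_⟩
  by_contra hne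
  have hw : u * s * u⁻¹ ∈ S := (mem_normalizer_iff.mp hu s).mp hs
  have hm : u * s * u⁻¹ * s ∈ S := mul_mem hw hs
  have hm1 : u * s * u⁻¹ * s ≠ 1 := fun e => hne (eq_inv_of_mul_eq_one_left e)
  have hfix : Commute u (u * s * u⁻¹ * s) := by
    show u * (u * s * u⁻¹ * s) = u * s * u⁻¹ * s * u
    have hinv : u⁻¹ = u := inv_eq_of_mul_eq_one_right hu2
    have hc := (h.commute hw hs).eq
    rw [hinv] at hc ⊢
    calc u * (u * s * u * s) = u * u * (s * u * s) := by simp [mul_assoc]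
      _ = s * (u * s * u) * u := by rw [hu2, one_mul]; simp [mul_assoc, hu2]
      _ = u * s * u * s * u := by rw [← hc]
  have hus := h.mem_of_commute hm hm1 hfix
  have := h.exp u hus
  have := huo ▸ orderOf_dvd_of_pow_eq_one this
  omega

end Hyp

end Cfsg.Agent.NineFrobenius
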