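import Mathlib

/-!
Finite checks for the character inequalities.
-/

set_option autoImplicit false

namespace Cfsg.Agent.NineFrobenius

theorem table4 : ∀ a b : Fin 5, ∀ x : Fin 13,
    ((a : ℤ) - 2 - ((b : ℤ) - 2)) % 3 = 0 → ((a : ℤ) + b - 4) * ((a : ℤ) + b - 4) ≤ 14 →
    ((x : ℤ) = 12 ∨ (0 < (x : ℤ) ∧ ((x : ℤ) + 2 * ((a : ℤ) - 2)) % 3 = 0 ∧
      ((x : ℤ) + 4 * ((a : ℤ) - 2) + 4 * ((b : ℤ) - 2)) % 9 = 0 ∧
      (a : ℤ) - 2 ≠ x ∧ (b : ℤ) - 2 ≠ x)) →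
    0 ≤ 20 * (((a : ℤ) - 2) * ((b : ℤ) - 2) * ((a : ℤ) + b - 4)) +
      (x : ℤ) * (2 * (((a : ℤ) - 2) * ((a : ℤ) - 2)) + 2 * (((b : ℤ) - 2) * ((b : ℤ) - 2)) +
        ((a : ℤ) - 2) * ((b : ℤ) - 2)) := by decide +kernel

/-- The row polynomial for four classes. -/
def poly (a b c d : ℤ) : ℤ :=
  a * a * b + a * a * c + a * a * d + b * b * a + b * b * c + b * b * d +
  c * c * a + c * c * b + c * c * d + d * d * a + d * d * b + d * d * c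

/-- The row weight for four classes. -/
def wgt (a b c d : ℤ) : ℤ :=
  150 * (a * a + b * b + c * c + d * d) + 57 * ((a + b + c + d) * (a + b + c + d))

/-- A shifted entry. -/
def sh (a : Fin 5) : ℤ := (a : ℤ) - 2

theorem table2 : ∀ a b c d : Fin 5,
    (sh a - sh b) % 3 = 0 → (sh a - sh c) % 3 = 0 → (sh a - sh d) % 3 = 0 →
    (sh a + sh b + sh c + sh d) * (sh a + sh b + sh c + sh d) ≤ 20 →
    ∀ x : Fin 13,
    ((x : ℤ) = 12 ∨ (0 < (x : ℤ) ∧ ((x : ℤ) + 2 * sh a) % 3 = 0 ∧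
      ((x : ℤ) + 2 * (sh a + sh b + sh c + sh d)) % 9 = 0 ∧
      sh a ≠ x ∧ sh b ≠ x ∧ sh c ≠ x ∧ sh d ≠ x)) →
    0 ≤ 1000 * poly (sh a) (sh b) (sh c) (sh d) + (x : ℤ) * wgt (sh a) (sh b) (sh c) (sh d) := by
  decide +kernel

theorem wgt_nonneg (a b c d : ℤ) : 0 ≤ wgt a b c d := by
  unfold wgt
  nlinarith [mul_self_nonneg a, mul_self_nonneg b, mul_self_nonneg c, mul_self_nonneg d,
    mul_self_nonneg (a + b + c + d)]

theorem lift_small {a : ℤ} (h : a * a ≤ 8) : ∃ i : Fin 5, (i : ℤ) - 2 = a := by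
  have h1 : -2 ≤ a := by nlinarith
  have h2 : a ≤ 2 := by nlinarith
  exact ⟨⟨(a + 2).toNat, by omega⟩, by simp; omega⟩

theorem row4 {a b x : ℤ} (ha : a * a ≤ 8) (hb : b * b ≤ 8) (hab : (a + b) * (a + b) ≤ 14)
    (hx : 0 < x) (m1 : 3 ∣ x + 2 * a) (m2 : 3 ∣ x + 2 * b) (m9 : 9 ∣ x + 4 * a + 4 * b)
    (na : a ≠ x) (nb : b ≠ x) :
    0 ≤ 20 * (a * b * (a + b)) + x * (2 * (a * a) + 2 * (b * b) + a * b) := by
  obtain ⟨i, rfl⟩ := lift_small ha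
  obtain ⟨j, rfl⟩ := lift_small hb
  rw [show ((i : ℤ) - 2 + ((j : ℤ) - 2)) = (i : ℤ) + j - 4 by ring] at hab ⊢
  rcases lt_or_ge x 12 with h12 | h12
  · lift x to ℕ using hx.le
    have := table4 i j ⟨x, by omega⟩ (by omega) hab
      (Or.inr ⟨hx, Int.emod_eq_zero_of_dvd m1, Int.emod_eq_zero_of_dvd m9, na, nb⟩)
    simpa using this
  · have := table4 i j 12 (by omega) hab (Or.inl rfl)
    have hL : 0 ≤ 2 * (((i : ℤ) - 2) * ((i : ℤ) - 2)) + 2 * (((j : ℤ) - 2) * ((j : ℤ) - 2)) +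
        ((i : ℤ) - 2) * ((j : ℤ) - 2) := by
      nlinarith [mul_self_nonneg (((i : ℤ) - 2) + ((j : ℤ) - 2)), mul_self_nonneg ((i : ℤ) - 2),
        mul_self_nonneg ((j : ℤ) - 2)]
    rw [show (((12 : Fin 13) : ℕ) : ℤ) = 12 from rfl] at this
    nlinarith

theorem row2 {a b c d x : ℤ} (ha : a * a ≤ 8) (hb : b * b ≤ 8) (hc : c * c ≤ 8) (hd : d * d ≤ 8)
    (hs : (a + b + c + d) * (a + b + c + d) ≤ 20) (hx : 0 < x) (m1 : 3 ∣ x + 2 * a)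
    (m2 : 3 ∣ x + 2 * b) (m3 : 3 ∣ x + 2 * c) (m4 : 3 ∣ x + 2 * d)
    (m9 : 9 ∣ x + 2 * (a + b + c + d)) (na : a ≠ x) (nb : b ≠ x) (nc : c ≠ x) (nd : d ≠ x) :
    0 ≤ 1000 * poly a b c d + x * wgt a b c d := by
  obtain ⟨i, rfl⟩ := lift_small ha
  obtain ⟨j, rfl⟩ := lift_small hb
  obtain ⟨k, rfl⟩ := lift_small hc
  obtain ⟨l, rfl⟩ := lift_small hd
  rcases lt_or_ge x 12 with h12 | h12
  · lift x to ℕ using hx.le
    have := table2 i j k l (by unfold sh; omega) (by unfold sh; omega) (by unfold sh; omega) hs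
      ⟨x, by omega⟩ (Or.inr ⟨hx, Int.emod_eq_zero_of_dvd m1, Int.emod_eq_zero_of_dvd m9, na, nb, nc, nd⟩)
    simpa [sh] using this
  · have := table2 i j k l (by unfold sh; omega) (by unfold sh; omega) (by unfold sh; omega) hs
      12 (Or.inl rfl)
    have hL := wgt_nonneg ((i : ℤ) - 2) ((j : ℤ) - 2) ((k : ℤ) - 2) ((l : ℤ) - 2)
    simp only [sh] at this
    rw [show (((12 : Fin 13) : ℕ) : ℤ) = 12 from rfl] at this
    nlinarith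

end Cfsg.Agent.NineFrobenius
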