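import Cfsg.Agent.Lib.Recog.NineFrobenius.Char
import Cfsg.Agent.Lib.Recog.NineFrobenius.Table

/-!
A simple group with a self-centralizing `3^2` having four classes in it does not exist, and with two
classes has order at most 720.
-/

set_option autoImplicit false
set_option linter.unusedSectionVars false

namespace Cfsg.Agent.NineFrobenius

open Subgroup
open Cfsg.Agent

universe u

variable {G : Type u} [Group G] [Fintype G] {S : Subgroup G}

attribute [local instance] Classical.propDecidable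

/-- First class in coordinates. -/
def inA (p : Fin 3 × Fin 3) : Bool := decide (p = (1, 0) ∨ p = (2, 0) ∨ p = (0, 1) ∨ p = (0, 2))

/-- Second class in coordinates. -/
def inB (p : Fin 3 × Fin 3) : Bool := decide (p ≠ 0) && !inA p

/-- Representatives of the four lines. -/
def line : Fin 4 → Fin 3 × Fin 3 := ![(1, 0), (0, 1), (1, 1), (1, 2)]

theorem count_AAB : (Finset.univ.filter fun a => inA a = true ∧ inB ((1, 0) + a) = true).card = 2 := by
  decide +kernel

theorem count_BBA : (Finset.univ.filter fun a => inB a = true ∧ inA ((1, 1) + a) = true).card = 2 := by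
  decide +kernel

theorem line_facts : (∀ i, line i ≠ 0) ∧ (∀ i j, i ≠ j → line j ≠ line i ∧ line j ≠ -line i) ∧
    (∀ i j, i ≠ j → ∀ a, (a = line i ∨ a = -line i) →
      (line i + a ≠ line j ∧ line i + a ≠ -line j)) := by decide +kernel

theorem classes_two (h : CHyp S) (F : Frame S) (hN : Nat.card (normalizer (S : Set G)) = 18)
    {p q : Fin 3 × Fin 3} (hp : p ≠ 0) :
    IsConj (F.φ p) (F.φ q) ↔ q = p ∨ q = -p := by
  have hc := h.toHyp.card_fused (F.φ_mem p) (F.φ_ne h.toHyp hp)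
  rw [hN, F.card_sub h.toHyp (fun v => IsConj (F.φ p) v)] at hc
  have hneg : F.φ (-p) = (F.φ p)⁻¹ := eq_inv_of_mul_eq_one_left (by
    rw [← F.φ_add h.toHyp, neg_add_cancel, F.φ_zero])
  have hne : -p ≠ p := fun e => h.toHyp.sq_ne (F.φ_mem p) (F.φ_ne h.toHyp hp) (by rw [← hneg, e])
  have hs : ({p, -p} : Finset (Fin 3 × Fin 3)) ⊆
      Finset.univ.filter (fun r => IsConj (F.φ p) (F.φ r)) := by
    intro r hr
    simp only [Finset.mem_insert, Finset.mem_singleton] at hr
    rcases hr with rfl | rfl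
    · exact Finset.mem_filter.mpr ⟨Finset.mem_univ _, IsConj.refl _⟩
    · simpa [hneg] using h.real _ (F.φ_mem p)
  have he := Finset.eq_of_subset_of_card_le hs (by rw [Finset.card_pair (Ne.symm hne)]; omega)
  have := Finset.ext_iff.mp he q
  simpa using this.symm

theorem not_eighteen [IsSimpleGroup G] (h : CHyp S) (F : Frame S)
    (hN : Nat.card (normalizer (S : Set G)) = 18) : False := by
  obtain ⟨hl0, hl1, hl2⟩ := line_facts
  set a : IrrCharacter G → Fin 4 → ℤ := fun χ i => val χ (F.φ (line i)) with ha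
  have hnc : ∀ i j, i ≠ j → ¬ IsConj (F.φ (line i)) (F.φ (line j)) := fun i j hij hc => by
    rcases (classes_two h F hN (hl0 i)).mp hc with e | e
    · exact (hl1 i j hij).1 e
    · exact (hl1 i j hij).2 e
  -- the structure constants
  have hzero : ∀ i j, i ≠ j →
      ∑ χ : IrrCharacter G, ((a χ i * a χ i * a χ j : ℤ) : ℚ) / (dg χ : ℚ) = 0 := by
    intro i j hij
    have hno : ¬ (IsConj (F.φ (line i)) (F.φ (line i)) ∧
        IsConj (F.φ (line i))⁻¹ (F.φ (line j))) :=
      fun hc => hnc i j hij ((h.real _ (F.φ_mem _)).trans hc.2)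
    have e := h.const_eq F (hl0 i) (hl0 i) (hl0 j) hno
    rw [Finset.card_eq_zero.mpr (Finset.filter_eq_empty_iff.mpr fun p _ hp => ?_), Nat.cast_zero,
      mul_zero] at e
    · exact (mul_eq_zero.mp e).resolve_left (Nat.cast_ne_zero.mpr Nat.card_pos.ne')
    · have h1 := (classes_two h F hN (hl0 i)).mp hp.1
      obtain ⟨n1, n2⟩ := hl2 i j hij p h1
      rcases (classes_two h F hN (hl0 j)).mp hp.2 with e' | e'
      · exact n1 e'
      · exact n2 e'
  have hsum : ∑ χ : IrrCharacter G, ((poly (a χ 0) (a χ 1) (a χ 2) (a χ 3) : ℤ) : ℚ) / (dg χ : ℚ) = 0 := by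
    have e := fun i j hij => hzero i j hij
    calc _ = ∑ χ : IrrCharacter G, (((a χ 0 * a χ 0 * a χ 1 : ℤ) : ℚ) / (dg χ : ℚ) +
          ((a χ 0 * a χ 0 * a χ 2 : ℤ) : ℚ) / (dg χ : ℚ) +
          ((a χ 0 * a χ 0 * a χ 3 : ℤ) : ℚ) / (dg χ : ℚ) +
          ((a χ 1 * a χ 1 * a χ 0 : ℤ) : ℚ) / (dg χ : ℚ) +
          ((a χ 1 * a χ 1 * a χ 2 : ℤ) : ℚ) / (dg χ : ℚ) +
          ((a χ 1 * a χ 1 * a χ 3 : ℤ) : ℚ) / (dg χ : ℚ) +
          ((a χ 2 * a χ 2 * a χ 0 : ℤ) : ℚ) / (dg χ : ℚ) +
          ((a χ 2 * a χ 2 * a χ 1 : ℤ) : ℚ) / (dg χ : ℚ) +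
          ((a χ 2 * a χ 2 * a χ 3 : ℤ) : ℚ) / (dg χ : ℚ) +
          ((a χ 3 * a χ 3 * a χ 0 : ℤ) : ℚ) / (dg χ : ℚ) +
          ((a χ 3 * a χ 3 * a χ 1 : ℤ) : ℚ) / (dg χ : ℚ) +
          ((a χ 3 * a χ 3 * a χ 2 : ℤ) : ℚ) / (dg χ : ℚ)) := by
            refine Finset.sum_congr rfl fun χ _ => ?_
            simp only [poly]
            push_cast
            ring
      _ = 0 := by
            simp only [Finset.sum_add_distrib]
            rw [e 0 1 (by decide), e 0 2 (by decide), e 0 3 (by decide), e 1 0 (by decide),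
              e 1 2 (by decide), e 1 3 (by decide), e 2 0 (by decide), e 2 1 (by decide),
              e 2 3 (by decide), e 3 0 (by decide), e 3 1 (by decide), e 3 2 (by decide)]
            norm_num
  set R := Finset.univ.erase (CT.trivIrr G) with hR
  -- the columns
  have col : ∀ i j, ∑ χ ∈ R, a χ i * a χ j = if i = j then 8 else -1 := by
    intro i j
    rw [h.column' (F.φ_mem _) (F.φ_ne h.toHyp (hl0 i)) (F.φ_mem _)]
    by_cases hij : i = j
    · subst hij; rw [if_pos (IsConj.refl _), if_pos rfl]; norm_num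
    · rw [if_neg hij, if_neg (hnc i j hij)]; norm_num
  have hsig : ∑ χ ∈ R, (a χ 0 + a χ 1 + a χ 2 + a χ 3) * (a χ 0 + a χ 1 + a χ 2 + a χ 3) = 20 := by
    simp only [add_mul, mul_add, Finset.sum_add_distrib, col, Fin.reduceEq, if_false, if_true]
    norm_num
  have hw : ∑ χ ∈ R, wgt (a χ 0) (a χ 1) (a χ 2) (a χ 3) = 5940 := by
    simp only [wgt, Finset.sum_add_distrib, ← Finset.mul_sum, col, hsig]
    norm_num
  have hrow : ∀ χ ∈ R, -((wgt (a χ 0) (a χ 1) (a χ 2) (a χ 3) : ℤ) : ℚ) ≤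
      1000 * (((poly (a χ 0) (a χ 1) (a χ 2) (a χ 3) : ℤ) : ℚ) / (dg χ : ℚ)) := by
    intro χ hχ
    have hx := dg_pos χ
    have sm : ∀ i, a χ i * a χ i ≤ 8 := fun i => by
      have := Finset.single_le_sum (f := fun χ => a χ i * a χ i) (fun t _ => mul_self_nonneg _) hχ
      rwa [col i i, if_pos rfl] at this
    have hs : (a χ 0 + a χ 1 + a χ 2 + a χ 3) * (a χ 0 + a χ 1 + a χ 2 + a χ 3) ≤ 20 :=
      hsig ▸ Finset.single_le_sum (f := fun χ => (a χ 0 + a χ 1 + a χ 2 + a χ 3) *
        (a χ 0 + a χ 1 + a χ 2 + a χ 3)) (fun t _ => mul_self_nonneg _) hχ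
    have hm : ∀ i, 3 ∣ dg χ + 2 * a χ i := fun i =>
      h.mod_three χ (F.φ_mem _) (F.φ_ne h.toHyp (hl0 i))
    have hne : ∀ i, a χ i ≠ dg χ := fun i =>
      h.val_ne_dg (Finset.ne_of_mem_erase hχ) (F.φ_mem _) (F.φ_ne h.toHyp (hl0 i))
    have h9 : 9 ∣ dg χ + 2 * (a χ 0 + a χ 1 + a χ 2 + a χ 3) := by
      have hsf := h.sum_frame F χ
      have hneg : ∀ p : Fin 3 × Fin 3, p ≠ 0 → val χ (F.φ (-p)) = val χ (F.φ p) := fun p hp => by
        have := CT.isClassFunction_isConj (CT.isClassFunction_of_isIrr χ.2)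
          ((classes_two h F hN hp).mpr (Or.inr rfl : -p = p ∨ -p = -p))
        rw [h.val_eq χ (F.φ_mem _), h.val_eq χ (F.φ_mem _)] at this
        exact_mod_cast this.symm
      have n1 := hneg (1, 0) (by decide)
      have n2 := hneg (0, 1) (by decide)
      have n3 := hneg (1, 1) (by decide)
      have n4 := hneg (1, 2) (by decide)
      rw [show (-(1, 0) : Fin 3 × Fin 3) = (2, 0) by decide] at n1
      rw [show (-(0, 1) : Fin 3 × Fin 3) = (0, 2) by decide] at n2
      rw [show (-(1, 1) : Fin 3 × Fin 3) = (2, 2) by decide] at n3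
      rw [show (-(1, 2) : Fin 3 × Fin 3) = (2, 1) by decide] at n4
      rw [Fintype.sum_prod_type] at hsf
      simp only [Fin.sum_univ_three, n1, n2, n3, n4] at hsf
      have h0 : val χ (F.φ (0, 0)) = dg χ := by
        rw [show ((0, 0) : Fin 3 × Fin 3) = 0 from rfl, F.φ_zero]
        simp [val, dg_eq]
      rw [h0] at hsf
      obtain ⟨m, hm⟩ := hsf
      refine ⟨m, ?_⟩
      rw [← hm]
      simp only [ha, line, Matrix.cons_val_zero, Matrix.cons_val_one, Matrix.cons_val]
      ring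
    have hr := row2 (sm 0) (sm 1) (sm 2) (sm 3) hs hx (hm 0) (hm 1) (hm 2) (hm 3) h9
      (hne 0) (hne 1) (hne 2) (hne 3)
    have hxq : (0 : ℚ) < (dg χ : ℚ) := by exact_mod_cast hx
    rw [mul_div_assoc', le_div_iff₀ hxq]
    have : -(wgt (a χ 0) (a χ 1) (a χ 2) (a χ 3)) * dg χ ≤
        1000 * poly (a χ 0) (a χ 1) (a χ 2) (a χ 3) := by linarith
    exact_mod_cast this
  have hb := Finset.sum_le_sum hrow
  rw [Finset.sum_neg_distrib, ← Finset.mul_sum, ← Int.cast_sum, hw] at hb
  rw [← Finset.add_sum_erase _ _ (Finset.mem_univ (CT.trivIrr G)), ← hR] at hsum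
  have ht : poly (a (CT.trivIrr G) 0) (a (CT.trivIrr G) 1) (a (CT.trivIrr G) 2)
      (a (CT.trivIrr G) 3) = 12 := by simp [ha, poly]
  rw [ht, dg_triv] at hsum
  norm_num at hsum hb
  linarith

theorem le_720 [IsSimpleGroup G] (h : CHyp S) (F : Frame S)
    (hN : Nat.card (normalizer (S : Set G)) = 36)
    (h4 : ∀ p, p ≠ 0 → IsConj F.e1 (F.φ p) → inA p = true) : Nat.card G ≤ 720 := by
  have n10 : ((1, 0) : Fin 3 × Fin 3) ≠ 0 := by decide
  have n11 : ((1, 1) : Fin 3 × Fin 3) ≠ 0 := by decide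
  have hcard : ∀ p : Fin 3 × Fin 3, p ≠ 0 →
      (Finset.univ.filter fun r => IsConj (F.φ p) (F.φ r)).card = 4 := by
    intro p hp
    have hc := h.toHyp.card_fused (F.φ_mem p) (F.φ_ne h.toHyp hp)
    rw [hN, F.card_sub h.toHyp (fun v => IsConj (F.φ p) v)] at hc
    omega
  have hnz : ∀ {p q : Fin 3 × Fin 3}, p ≠ 0 → IsConj (F.φ p) (F.φ q) → q ≠ 0 := by
    rintro p q hp hc rfl
    obtain ⟨c, hc⟩ := isConj_iff.mp hc
    rw [F.φ_zero, conj_eq_one_iff] at hc
    exact F.φ_ne h.toHyp hp hc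
  have hA : ∀ q, IsConj (F.φ (1, 0)) (F.φ q) ↔ inA q = true := by
    intro q
    have hsub : Finset.univ.filter (fun r => IsConj (F.φ (1, 0)) (F.φ r)) ⊆
        Finset.univ.filter (fun r => inA r = true) := fun r hr => by
      simp only [Finset.mem_filter, Finset.mem_univ, true_and] at hr ⊢
      exact h4 r (hnz n10 hr) (by rwa [F.φ_e1] at hr)
    have e := Finset.eq_of_subset_of_card_le hsub (by rw [hcard _ n10]; decide +kernel)
    simpa using Finset.ext_iff.mp e q
  have hB : ∀ q, IsConj (F.φ (1, 1)) (F.φ q) ↔ inB q = true := by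
    intro q
    have hsub : Finset.univ.filter (fun r => IsConj (F.φ (1, 1)) (F.φ r)) ⊆
        Finset.univ.filter (fun r => inB r = true) := fun r hr => by
      simp only [Finset.mem_filter, Finset.mem_univ, true_and] at hr ⊢
      simp only [inB, Bool.and_eq_true, decide_eq_true_eq, Bool.not_eq_true']
      refine ⟨hnz n11 hr, Bool.eq_false_iff.mpr fun hc => ?_⟩
      have := (hA (1, 1)).mp (((hA r).mpr hc).trans hr.symm)
      exact absurd this (by decide)
    have e := Finset.eq_of_subset_of_card_le hsub (by rw [hcard _ n11]; decide +kernel)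
    simpa using Finset.ext_iff.mp e q
  set s := F.φ (1, 0) with hs
  set t := F.φ (1, 1) with ht
  have hst : ¬ IsConj s t := fun hc => absurd ((hA _).mp hc) (by decide)
  set a : IrrCharacter G → ℤ := fun χ => val χ s with ha
  set b : IrrCharacter G → ℤ := fun χ => val χ t with hb'
  -- the two structure constants
  have e1 := h.const_eq F n10 n10 n11
    (fun hc => hst ((h.real _ (F.φ_mem _)).trans hc.2))
  have e2 := h.const_eq F n11 n11 n10
    (fun hc => hst ((h.real _ (F.φ_mem _)).trans hc.2).symm)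
  have hA' : ∀ q, IsConj (F.φ (1, 0)) (F.φ q) ↔ inA q = true := hA
  have hB' : ∀ q, IsConj (F.φ (1, 1)) (F.φ q) ↔ inB q = true := hB
  simp only [hA', hB'] at e1 e2
  rw [count_AAB] at e1
  rw [count_BBA] at e2
  have hsum : (Nat.card G : ℚ) * ∑ χ : IrrCharacter G,
      ((a χ * b χ * (a χ + b χ) : ℤ) : ℚ) / (dg χ : ℚ) = 324 := by
    have : ∀ χ : IrrCharacter G, ((a χ * b χ * (a χ + b χ) : ℤ) : ℚ) / (dg χ : ℚ) =
        ((val χ s * val χ s * val χ t : ℤ) : ℚ) / (dg χ : ℚ) +
        ((val χ t * val χ t * val χ s : ℤ) : ℚ) / (dg χ : ℚ) := fun χ => by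
      simp only [ha, hb']; push_cast; ring
    rw [Finset.sum_congr rfl fun χ _ => this χ, Finset.sum_add_distrib, mul_add]
    push_cast at e1 e2 ⊢
    linarith
  set R := Finset.univ.erase (CT.trivIrr G) with hR
  have hs1 := F.φ_ne h.toHyp n10
  have ht1 := F.φ_ne h.toHyp n11
  have caa : ∑ χ ∈ R, a χ * a χ = 8 := by
    rw [h.column' (F.φ_mem _) hs1 (F.φ_mem _), if_pos (IsConj.refl _)]; norm_num
  have cbb : ∑ χ ∈ R, b χ * b χ = 8 := by
    rw [h.column' (F.φ_mem _) ht1 (F.φ_mem _), if_pos (IsConj.refl _)]; norm_num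
  have cab : ∑ χ ∈ R, a χ * b χ = -1 := by
    rw [h.column' (F.φ_mem _) hs1 (F.φ_mem _), if_neg hst]; norm_num
  have csq : ∑ χ ∈ R, (a χ + b χ) * (a χ + b χ) = 14 := by
    have : ∀ χ : IrrCharacter G, (a χ + b χ) * (a χ + b χ) =
        a χ * a χ + 2 * (a χ * b χ) + b χ * b χ := fun χ => by ring
    rw [Finset.sum_congr rfl fun χ _ => this χ]
    simp only [Finset.sum_add_distrib, ← Finset.mul_sum, caa, cbb, cab]
    norm_num
  have hrow : ∀ χ ∈ R, -((2 * (a χ * a χ) + 2 * (b χ * b χ) + a χ * b χ : ℤ) : ℚ) ≤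
      20 * (((a χ * b χ * (a χ + b χ) : ℤ) : ℚ) / (dg χ : ℚ)) := by
    intro χ hχ
    have hx := dg_pos χ
    have hne := Finset.ne_of_mem_erase hχ
    have h9 : 9 ∣ dg χ + 4 * a χ + 4 * b χ := by
      have hsf := h.sum_frame F χ
      have hv : ∀ p, p ≠ 0 → val χ (F.φ p) = if inA p = true then a χ else b χ := by
        intro p hp
        split_ifs with hc
        · have := CT.isClassFunction_isConj (CT.isClassFunction_of_isIrr χ.2) ((hA p).mpr hc)
          rw [h.val_eq χ (F.φ_mem _), h.val_eq χ (F.φ_mem _)] at this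
          exact_mod_cast this.symm
        · have := CT.isClassFunction_isConj (CT.isClassFunction_of_isIrr χ.2)
            ((hB p).mpr (by simp [inB, hp, hc]))
          rw [h.val_eq χ (F.φ_mem _), h.val_eq χ (F.φ_mem _)] at this
          exact_mod_cast this.symm
      have h0 : val χ (F.φ 0) = dg χ := by
        rw [F.φ_zero]
        simp [val, dg_eq]
      have hall : ∀ p, val χ (F.φ p) =
          if p = 0 then dg χ else if inA p = true then a χ else b χ := fun p => by
        by_cases hp : p = 0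
        · rw [if_pos hp, hp, h0]
        · rw [if_neg hp, hv p hp]
      rw [Finset.sum_congr rfl fun p _ => hall p, Fintype.sum_prod_type] at hsf
      simp [Fin.sum_univ_three, inA] at hsf
      omega
    have hr := row4 (a := a χ) (b := b χ)
      (caa ▸ Finset.single_le_sum (f := fun χ => a χ * a χ) (fun t _ => mul_self_nonneg _) hχ)
      (cbb ▸ Finset.single_le_sum (f := fun χ => b χ * b χ) (fun t _ => mul_self_nonneg _) hχ)
      (csq ▸ Finset.single_le_sum (f := fun χ => (a χ + b χ) * (a χ + b χ))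
        (fun t _ => mul_self_nonneg _) hχ) hx
      (h.mod_three χ (F.φ_mem _) hs1) (h.mod_three χ (F.φ_mem _) ht1) h9
      (h.val_ne_dg hne (F.φ_mem _) hs1) (h.val_ne_dg hne (F.φ_mem _) ht1)
    have hxq : (0 : ℚ) < (dg χ : ℚ) := by exact_mod_cast hx
    rw [mul_div_assoc', le_div_iff₀ hxq]
    have : -(2 * (a χ * a χ) + 2 * (b χ * b χ) + a χ * b χ) * dg χ ≤
        20 * (a χ * b χ * (a χ + b χ)) := by linarith
    exact_mod_cast this
  have hb := Finset.sum_le_sum hrow
  rw [Finset.sum_neg_distrib, ← Finset.mul_sum, ← Int.cast_sum] at hb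
  simp only [Finset.sum_add_distrib, ← Finset.mul_sum, caa, cbb, cab] at hb
  rw [← Finset.add_sum_erase _ _ (Finset.mem_univ (CT.trivIrr G)), ← hR] at hsum
  have hta : a (CT.trivIrr G) = 1 := by simp [ha]
  have htb : b (CT.trivIrr G) = 1 := by simp [hb']
  rw [hta, htb, dg_triv] at hsum
  norm_num at hsum hb
  have hpos : (0 : ℚ) ≤ (Nat.card G : ℚ) := Nat.cast_nonneg _
  have : (Nat.card G : ℚ) ≤ 720 := by
    generalize (∑ χ ∈ R, _ : ℚ) = T at hsum hb
    rw [Fintype.card_eq_nat_card] at hsum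
    nlinarith
  exact_mod_cast this

end Cfsg.Agent.NineFrobenius
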