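import Cfsg.Agent.Lib.Recog.NineFrobenius.Basic
import Cfsg.Agent.Lib.SelfCentThree.Char

/-!
Character values on a self-centralizing elementary abelian subgroup of order nine, and the
structure constants of the classes of its elements.
-/

set_option autoImplicit false
set_option linter.unusedSectionVars false

namespace Cfsg.Agent.NineFrobenius

open Subgroup
open scoped ComplexConjugate
open Cfsg.Agent

universe u

variable {G : Type u} [Group G] [Fintype G]

attribute [local instance] Classical.propDecidable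

/-- The real part of a character value, rounded down. -/
noncomputable def val (χ : IrrCharacter G) (s : G) : ℤ := ⌊((χ : G → ℂ) s).re⌋

/-- The degree. -/
noncomputable def dg (χ : IrrCharacter G) : ℤ := (CT.deg (χ : G → ℂ) : ℤ)

theorem dg_eq (χ : IrrCharacter G) : (χ : G → ℂ) 1 = (dg χ : ℂ) := by
  rw [dg, CT.deg_eq (CT.isCharacter_of_isIrr χ.2)]; simp

theorem dg_pos (χ : IrrCharacter G) : 0 < dg χ := by
  simpa [dg] using CT.deg_pos χ.2

@[simp] theorem val_triv (s : G) : val (CT.trivIrr G) s = 1 := by simp [val]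

@[simp] theorem dg_triv : dg (CT.trivIrr G) = 1 := by simp [dg, CT.deg]

/-- A basis of `S`. -/
structure Frame (S : Subgroup G) where
  e1 : G
  e2 : G
  m1 : e1 ∈ S
  m2 : e2 ∈ S
  ne1 : e1 ≠ 1
  indep : e2 ∉ zpowers e1

variable {S : Subgroup G}

theorem exists_frame (h : Hyp S) {a : G} (ha : a ∈ S) (ha1 : a ≠ 1) :
    ∃ F : Frame S, F.e1 = a := by
  obtain ⟨b, hb, hba⟩ : ∃ b ∈ S, b ∉ zpowers a := by
    by_contra hc
    push Not at hc
    have := Subgroup.card_le_of_le (show S ≤ zpowers a from hc)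
    rw [h.card, Nat.card_zpowers, h.orderOf_eq ha ha1] at this
    omega
  exact ⟨⟨a, b, ha, hb, ha1, hba⟩, rfl⟩

namespace Frame

variable (F : Frame S)

/-- Coordinates. -/
def φ (p : Fin 3 × Fin 3) : G := F.e1 ^ (p.1 : ℕ) * F.e2 ^ (p.2 : ℕ)

theorem φ_mem (p : Fin 3 × Fin 3) : F.φ p ∈ S := mul_mem (pow_mem F.m1 _) (pow_mem F.m2 _)

theorem φ_zero : F.φ 0 = 1 := by simp [φ]

theorem φ_e1 : F.φ (1, 0) = F.e1 := by simp [φ]

theorem φ_e2 : F.φ (0, 1) = F.e2 := by simp [φ]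

theorem φ_add (h : Hyp S) (p q : Fin 3 × Fin 3) : F.φ (p + q) = F.φ p * F.φ q := by
  simp only [φ, Prod.fst_add, Prod.snd_add, Fin.val_add]
  rw [← pow_eq_pow_mod _ (h.exp _ F.m1), ← pow_eq_pow_mod _ (h.exp _ F.m2), pow_add, pow_add]
  have := ((h.commute F.m1 F.m2).pow_pow (q.1 : ℕ) (p.2 : ℕ)).eq
  simp only [mul_assoc]
  congr 1
  rw [← mul_assoc, this, mul_assoc]

theorem φ_eq_one (h : Hyp S) {p : Fin 3 × Fin 3} (hp : F.φ p = 1) : p = 0 := by
  obtain ⟨i, j⟩ := p
  have h2 : j = 0 := by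
    have hm : F.e2 ^ (j : ℕ) ∈ zpowers F.e1 := by
      have : F.e2 ^ (j : ℕ) = (F.e1 ^ (i : ℕ))⁻¹ := eq_inv_of_mul_eq_one_right hp
      rw [this]; exact inv_mem (pow_mem (mem_zpowers _) _)
    by_contra hj
    refine F.indep ?_
    have := pow_mem hm (j : ℕ)
    rw [← pow_mul, pow_eq_pow_mod _ (h.exp _ F.m2),
      show (j : ℕ) * j % 3 = 1 by fin_cases j <;> simp_all, pow_one] at this
    exact this
  subst h2
  have h1 : F.e1 ^ (i : ℕ) = 1 := by simpa [φ] using hp
  have hd := h.orderOf_eq F.m1 F.ne1 ▸ orderOf_dvd_of_pow_eq_one h1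
  have : i = 0 := Fin.ext (show (i : ℕ) = 0 by omega)
  subst this
  rfl

theorem φ_bij (h : Hyp S) :
    Function.Bijective (fun p => (⟨F.φ p, F.φ_mem p⟩ : S)) := by
  refine (Fintype.bijective_iff_injective_and_card _).mpr ⟨fun p q hpq => ?_, ?_⟩
  · have e : F.φ p = F.φ q := congrArg Subtype.val hpq
    have := F.φ_eq_one h (p := p - q) (by
      have e2 := F.φ_add h (p - q) q
      rw [sub_add_cancel, e] at e2
      exact (mul_eq_right.mp e2.symm))
    exact sub_eq_zero.mp this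
  · simp [← Nat.card_eq_fintype_card, h.card, Nat.card_fin]

/-- The coordinates as an equivalence. -/
noncomputable def equiv (h : Hyp S) : Fin 3 × Fin 3 ≃ S := Equiv.ofBijective _ (F.φ_bij h)

theorem φ_surj (h : Hyp S) {v : G} (hv : v ∈ S) : ∃ p, F.φ p = v :=
  let ⟨p, hp⟩ := (F.φ_bij h).2 ⟨v, hv⟩
  ⟨p, congrArg Subtype.val hp⟩

theorem φ_ne (h : Hyp S) {p : Fin 3 × Fin 3} (hp : p ≠ 0) : F.φ p ≠ 1 :=
  fun e => hp (F.φ_eq_one h e)

theorem card_sub (h : Hyp S) (P : G → Prop) [DecidablePred P] :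
    Nat.card {v : S // P (v : G)} = (Finset.univ.filter fun p => P (F.φ p)).card := by
  rw [← Fintype.card_subtype, ← Nat.card_eq_fintype_card]
  exact (Nat.card_congr ((F.equiv h).subtypeEquiv fun p => Iff.rfl)).symm

end Frame

/-- The hypotheses for characters: every element of `S` is inverted. -/
structure CHyp (S : Subgroup G) : Prop extends Hyp S where
  real : ∀ s ∈ S, IsConj s s⁻¹

namespace CHyp

theorem val_eq (h : CHyp S) (χ : IrrCharacter G) {s : G} (hs : s ∈ S) :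
    (χ : G → ℂ) s = (val χ s : ℂ) := by
  by_cases hs1 : s = 1
  · subst hs1
    simp [val, dg_eq]
  obtain ⟨m, hm⟩ := SelfCentThree.int_at_three (h.toHyp.orderOf_eq hs hs1) (h.real s hs) χ
  simp [val, hm]

theorem column (h : CHyp S) {s t : G} (hs : s ∈ S) (hs1 : s ≠ 1) (ht : t ∈ S) :
    ∑ χ : IrrCharacter G, val χ s * val χ t = if IsConj s t then 9 else 0 := by
  have e := CT.column_orthogonality s t
  rw [h.cent s hs hs1, h.card] at e
  simp only [h.val_eq _ hs, h.val_eq _ ht, map_intCast] at e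
  split_ifs with hc
  · rw [if_pos hc] at e
    have : ((∑ χ : IrrCharacter G, val χ s * val χ t : ℤ) : ℂ) = ((9 : ℤ) : ℂ) := by
      push_cast; rw [e]; norm_num
    exact_mod_cast this
  · rw [if_neg hc] at e
    have : ((∑ χ : IrrCharacter G, val χ s * val χ t : ℤ) : ℂ) = ((0 : ℤ) : ℂ) := by
      push_cast; rw [e]
    exact_mod_cast this

/-- The sum of the nontrivial irreducible characters' products. -/
theorem column' (h : CHyp S) {s t : G} (hs : s ∈ S) (hs1 : s ≠ 1) (ht : t ∈ S) :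
    ∑ χ ∈ Finset.univ.erase (CT.trivIrr G), val χ s * val χ t =
      (if IsConj s t then 9 else 0) - 1 := by
  have := h.column hs hs1 ht
  rw [← Finset.add_sum_erase _ _ (Finset.mem_univ (CT.trivIrr G))] at this
  simp only [val_triv] at this
  linarith

theorem mod_three (h : CHyp S) (χ : IrrCharacter G) {s : G} (hs : s ∈ S) (hs1 : s ≠ 1) :
    3 ∣ dg χ + 2 * val χ s := by
  obtain ⟨m, hm⟩ := SelfCentThree.sum_subgroup_char (zpowers s) (CT.isCharacter_of_isIrr χ.2)
  have hcf := CT.isClassFunction_of_isIrr χ.2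
  have ho := h.toHyp.orderOf_eq hs hs1
  rw [SelfCentThree.sum_elem_subgroup (zpowers s) (val χ s : ℂ) ?_, Nat.card_zpowers, ho,
    dg_eq] at hm
  · refine ⟨m, ?_⟩
    have : ((dg χ + 2 * val χ s : ℤ) : ℂ) = ((3 * m : ℤ) : ℂ) := by
      push_cast at hm ⊢
      linear_combination hm
    exact_mod_cast this
  · intro v hv hv1
    obtain ⟨i, hi⟩ := mem_powers_iff_mem_zpowers.mpr hv
    simp only at hi
    rw [← pow_mod_orderOf, ho] at hi
    have := Nat.mod_lt i (by norm_num : 3 > 0)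
    interval_cases hmm : i % 3
    · exact absurd hi.symm (by simpa using hv1)
    · rw [← hi, pow_one, h.val_eq χ hs]
    · rw [← hi, show s ^ 2 = s⁻¹ from (inv_eq_of_mul_eq_one_right (by
          rw [← pow_succ', h.exp s hs])).symm,
        ← CT.isClassFunction_isConj hcf (h.real s hs), h.val_eq χ hs]

theorem sum_frame (h : CHyp S) (F : Frame S) (χ : IrrCharacter G) :
    9 ∣ ∑ p, val χ (F.φ p) := by
  obtain ⟨m, hm⟩ := SelfCentThree.sum_subgroup_char S (CT.isCharacter_of_isIrr χ.2)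
  rw [h.card, ← (F.equiv h.toHyp).sum_comp] at hm
  refine ⟨m, ?_⟩
  have : ((∑ p, val χ (F.φ p) : ℤ) : ℂ) = ((9 * m : ℤ) : ℂ) := by
    push_cast
    rw [Nat.cast_ofNat] at hm
    rw [← hm]
    exact Finset.sum_congr rfl fun p _ => (h.val_eq χ (F.φ_mem p)).symm
  exact_mod_cast this

theorem val_ne_dg [IsSimpleGroup G] (h : CHyp S) {χ : IrrCharacter G} (hχ : χ ≠ CT.trivIrr G)
    {s : G} (hs : s ∈ S) (hs1 : s ≠ 1) : val χ s ≠ dg χ := by
  intro he
  have hc := CT.isCharacter_of_isIrr χ.2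
  rcases IsSimpleGroup.eq_bot_or_eq_top_of_normal _ (ClassSum.kerChar_normal hc) with hb | ht
  · refine hs1 ?_
    have : s ∈ CT.kerChar (χ : G → ℂ) :=
      (CT.mem_kerChar_iff hc).mpr (by rw [h.val_eq χ hs, he, dg_eq])
    rwa [hb, mem_bot] at this
  · refine hχ (Subtype.ext (funext fun g => ?_))
    have hall : ∀ g, (χ : G → ℂ) g = (χ : G → ℂ) 1 := fun g =>
      (CT.mem_kerChar_iff hc).mp (ht ▸ mem_top g)
    have hn : classInner (χ : G → ℂ) (χ : G → ℂ) = 1 := by
      exact CT.irr_inner_self χ.2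
    rw [classInner] at hn
    simp only [hall, dg_eq, map_intCast, Finset.sum_const, Finset.card_univ,
      nsmul_eq_mul, ← Nat.card_eq_fintype_card] at hn
    rw [← mul_assoc, inv_mul_cancel₀ (Nat.cast_ne_zero.mpr Nat.card_pos.ne'), one_mul] at hn
    have h1 : dg χ * dg χ = 1 := by exact_mod_cast hn
    have hd : dg χ = 1 := by have := dg_pos χ; nlinarith
    rw [hall g, dg_eq, hd]
    simp

/-- The structure constants. -/
theorem const_eq (h : CHyp S) (F : Frame S) {g g' x : Fin 3 × Fin 3} (hg : g ≠ 0) (hg' : g' ≠ 0)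
    (hx : x ≠ 0) (hno : ¬ (IsConj (F.φ g) (F.φ g') ∧ IsConj (F.φ g)⁻¹ (F.φ x))) :
    (Nat.card G : ℚ) * ∑ χ : IrrCharacter G,
        ((val χ (F.φ g) * val χ (F.φ g') * val χ (F.φ x) : ℤ) : ℚ) / (dg χ : ℚ) =
      81 * ((Finset.univ.filter fun a => IsConj (F.φ g') (F.φ a) ∧
        IsConj (F.φ x) (F.φ (g + a))).card : ℚ) := by
  have hgS := F.φ_mem g
  have h1 := ClassSum.sum_char_omega_conj (ClassSum.classInd_isClassWeight (F.φ g')) (F.φ g) (F.φ x)
  rw [h.cent _ (F.φ_mem x) (F.φ_ne h.toHyp hx), h.card] at h1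
  have h3 : ∑ a, (ClassSum.classInd (F.φ g') a : ℂ) * (ClassSum.classInd (F.φ x) (F.φ g * a) : ℂ) =
      (Nat.card {a : G // IsConj (F.φ g') a ∧ IsConj (F.φ x) (F.φ g * a)} : ℂ) := by
    rw [Nat.card_eq_fintype_card, Fintype.card_subtype, Finset.card_filter, Nat.cast_sum]
    refine Finset.sum_congr rfl fun a _ => ?_
    by_cases ha : IsConj (F.φ g') a
    · by_cases hb : IsConj (F.φ x) (F.φ g * a)
      · rw [ClassSum.classInd_pos ha, ClassSum.classInd_pos hb, if_pos ⟨ha, hb⟩]; simp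
      · rw [ClassSum.classInd_neg hb, if_neg fun hc => hb hc.2]; simp
    · rw [ClassSum.classInd_neg ha, if_neg fun hc => ha hc.1]; simp
  rw [h3, h.toHyp.pairs_eq hgS (F.φ_ne h.toHyp hg) (h.exp _ (F.φ_mem g')) (h.exp _ (F.φ_mem x)) hno,
    F.card_sub h.toHyp (fun a => IsConj (F.φ g') a ∧ IsConj (F.φ x) (F.φ g * a))] at h1
  simp only [← F.φ_add h.toHyp] at h1
  have hcl : (Nat.card {a : G // IsConj (F.φ g') a} : ℂ) * 9 = (Nat.card G : ℂ) := by
    exact_mod_cast h.toHyp.card_class (F.φ_mem g') (F.φ_ne h.toHyp hg')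
  generalize (Finset.univ.filter fun a => IsConj (F.φ g') (F.φ a) ∧
        IsConj (F.φ x) (F.φ (g + a))).card = N at h1 ⊢
  have key : (Nat.card G : ℂ) * ∑ χ : IrrCharacter G,
      ((val χ (F.φ g) * val χ (F.φ g') * val χ (F.φ x) : ℤ) : ℂ) / (dg χ : ℂ) =
      81 * (N : ℂ) := by
    rw [show (81 : ℂ) * N = 9 * (((9 : ℕ) : ℂ) * N) by push_cast; ring, ← h1, Finset.mul_sum,
      Finset.mul_sum]
    refine Finset.sum_congr rfl fun χ _ => ?_
    rw [ClassSum.omega_classInd _ (CT.isClassFunction_of_isIrr χ.2), h.val_eq χ (F.φ_mem g),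
      h.val_eq χ (F.φ_mem g'), h.val_eq χ (F.φ_mem x), map_intCast, dg_eq, ← hcl]
    push_cast
    ring
  have : (((Nat.card G : ℚ) * ∑ χ : IrrCharacter G,
        ((val χ (F.φ g) * val χ (F.φ g') * val χ (F.φ x) : ℤ) : ℚ) / (dg χ : ℚ) : ℚ) : ℂ) =
      ((81 * (N : ℚ) : ℚ) : ℂ) := by
    push_cast
    push_cast at key
    exact key
  exact_mod_cast this

end CHyp

end Cfsg.Agent.NineFrobenius
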