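import Cfsg.Agent.Lib.Recog.NineFrobenius.Bound
import Cfsg.Agent.Lib.SmallSimple.RangeLow
import Cfsg.Agent.Lib.SmallSimple.SylowFive
import Mathlib.GroupTheory.Sylow

/-!
A simple group with a self-centralizing elementary abelian Sylow 3-subgroup of order nine and at
least two classes of elements of order three has order 360.
-/

set_option autoImplicit false
set_option linter.unusedSectionVars false

namespace Cfsg.Agent.NineFrobenius

open Subgroup
open Cfsg.Agent

universe u

variable {G : Type u} [Group G] [Fintype G]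

attribute [local instance] Classical.propDecidable

/-- The hypotheses from a Sylow subgroup. -/
theorem hyp_of_sylow [Fact (Nat.Prime 3)] (P : Sylow 3 G) (hcard : Nat.card (P : Subgroup G) = 9)
    (hexp : ∀ a ∈ (P : Subgroup G), a ^ 3 = 1)
    (hcent : ∀ s ∈ (P : Subgroup G), s ≠ 1 →
      centralizer ({s} : Set G) = (P : Subgroup G)) : Hyp (P : Subgroup G) := by
  refine ⟨hcard, hexp, hcent, fun y hy => ?_, fun n hn h3 =>
    SylowFive.sylow_le_of_mem_normalizer P hn 1 (by rw [pow_one]; exact h3)⟩
  have hp : IsPGroup 3 (zpowers y) := IsPGroup.of_card (n := 1) (by rw [Nat.card_zpowers, hy, pow_one])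
  obtain ⟨Q, hQ⟩ := hp.exists_le_sylow
  obtain ⟨g, hg⟩ := MulAction.exists_smul_eq G Q P
  refine ⟨g, ?_⟩
  rw [← hg, Sylow.coe_subgroup_smul]
  exact smul_mem_pointwise_smul _ _ _ (hQ (mem_zpowers y))

theorem card_eq_360 [IsSimpleGroup G] [Fact (Nat.Prime 3)] (P : Sylow 3 G)
    (h : Hyp (P : Subgroup G)) (hnc : ¬ IsMulCommutative G)
    (hclasses : ∃ a b : G, orderOf a = 3 ∧ orderOf b = 3 ∧ ∀ g : G, g * a * g⁻¹ ≠ b) :
    Nat.card G = 360 := by
  set S := (P : Subgroup G) with hS
  set N := normalizer (S : Set G) with hN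
  obtain ⟨a, b, ha, hb, hab⟩ := hclasses
  obtain ⟨g, hga⟩ := h.sylow a ha
  obtain ⟨g', hgb⟩ := h.sylow b hb
  set a' := g * a * g⁻¹ with ha'
  set b' := g' * b * g'⁻¹ with hb'
  have ha1 : a' ≠ 1 := fun e => by rw [conj_eq_one_iff.mp e, orderOf_one] at ha; omega
  have hb1 : b' ≠ 1 := fun e => by rw [conj_eq_one_iff.mp e, orderOf_one] at hb; omega
  have hnot : ¬ IsConj a' b' := by
    intro hc
    have : IsConj a b := ((isConj_iff.mpr ⟨g, rfl⟩ : IsConj a a').trans hc).trans
      (isConj_iff.mpr ⟨g'⁻¹, by rw [hb']; group⟩ : IsConj b' b)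
    obtain ⟨c, hc⟩ := isConj_iff.mp this
    exact hab c hc
  obtain ⟨F0, hF0⟩ := exists_frame h hga ha1
  -- the number of classes inside `S`
  set cnt : G → ℕ := fun s => Nat.card {v : S // IsConj s (v : G)} with hcnt
  have hce : ∀ s ∈ S, s ≠ 1 → Nat.card N = 9 * cnt s := fun s hs hs1 => h.card_fused hs hs1
  set e := cnt a' with he
  have hNe : Nat.card N = 9 * e := hce a' hga ha1
  have hle : e + 2 ≤ 9 := by
    rw [he, hcnt, show (fun s => Nat.card {v : S // IsConj s (v : G)}) a' =
      (Finset.univ.filter fun v : S => IsConj a' (v : G)).card by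
        simp only; rw [Nat.card_eq_fintype_card, Fintype.card_subtype]]
    have hsub : Finset.univ.filter (fun v : S => IsConj a' (v : G)) ⊆
        (Finset.univ.erase (⟨b', hgb⟩ : S)).erase 1 := by
      intro v hv
      have hv' := (Finset.mem_filter.mp hv).2
      refine Finset.mem_erase.mpr ⟨fun e1 => ?_, Finset.mem_erase.mpr ⟨fun e1 => ?_, Finset.mem_univ _⟩⟩
      · subst e1
        obtain ⟨c, hc⟩ := isConj_iff.mp hv'
        exact ha1 (conj_eq_one_iff.mp hc)
      · exact hnot (by rw [e1] at hv'; exact hv')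
    have := Finset.card_le_card hsub
    rw [Finset.card_erase_of_mem (Finset.mem_erase.mpr
        ⟨fun e1 => hb1 (congrArg Subtype.val e1).symm, Finset.mem_univ _⟩),
      Finset.card_erase_of_mem (Finset.mem_univ _), Finset.card_univ, ← Nat.card_eq_fintype_card,
      h.card] at this
    omega
  -- the classes partition the eight elements
  have hdvd : e ∣ 8 := by
    let T := {v : S // (v : G) ≠ 1}
    let c : T → ConjClasses G := fun v => ConjClasses.mk ((v.1 : G))
    have hfib : ∀ C ∈ Finset.univ.image c, (Finset.univ.filter fun v => c v = C).card = e := by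
      intro C hC
      obtain ⟨w, -, rfl⟩ := Finset.mem_image.mp hC
      have hw := hce (w.1 : G) w.1.2 w.2
      rw [hNe] at hw
      have hcw : cnt (w.1 : G) = e := by omega
      rw [← hcw, hcnt]
      simp only
      rw [← Fintype.card_subtype, ← Nat.card_eq_fintype_card]
      refine Nat.card_congr ⟨fun v => ⟨v.1.1, (ConjClasses.mk_eq_mk_iff_isConj.mp v.2).symm⟩,
        fun v => ⟨⟨v.1, fun e1 => ?_⟩, ConjClasses.mk_eq_mk_iff_isConj.mpr v.2.symm⟩,
        fun v => rfl, fun v => rfl⟩
      obtain ⟨d, hd⟩ := isConj_iff.mp v.2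
      rw [e1, conj_eq_one_iff] at hd
      exact w.2 hd
    have h8 : Fintype.card T = 8 := by
      have : Fintype.card T = Fintype.card {v : S // v ≠ 1} :=
        Fintype.card_congr (Equiv.subtypeEquivRight fun v => by simp)
      rw [this, Fintype.card_subtype_compl, Fintype.card_subtype_eq, ← Nat.card_eq_fintype_card,
        h.card]
    rw [← h8, ← Finset.card_univ, Finset.card_eq_sum_card_image c, Finset.sum_congr rfl hfib,
      Finset.sum_const, smul_eq_mul]
    exact dvd_mul_left _ _
  have h3G : 3 ∣ Nat.card G :=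
    (show 3 ∣ Nat.card S by rw [h.card]; norm_num).trans (card_subgroup_dvd_card S)
  have hecases : e = 1 ∨ e = 2 ∨ e = 4 := by
    have : e ∈ Nat.divisors 8 := Nat.mem_divisors.mpr ⟨hdvd, by norm_num⟩
    rw [show Nat.divisors 8 = {1, 2, 4, 8} by decide] at this
    simp only [Finset.mem_insert, Finset.mem_singleton] at this
    omega
  have hSN : S ≤ N := le_normalizer
  have he1 : e ≠ 1 := fun e1 => by
    refine SmallSimple.not_normalizer_le_centralizer hnc h3G P fun n hn => ?_
    have hSeq : S = N := eq_of_le_of_card_ge hSN (by rw [hNe, e1, h.card])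
    have hnS : n ∈ S := hSeq ▸ hn
    exact mem_centralizer_iff.mpr fun t ht => (h.commute ht hnS).eq
  have h2 : 2 ∣ Nat.card N := by
    rw [hNe]
    rcases hecases with e1 | e1 | e1
    · exact absurd e1 he1
    all_goals rw [e1]; norm_num
  have hC : CHyp S := ⟨h, fun s hs => h.real h2 hs⟩
  have he4 : e = 4 := by
    rcases hecases with e1 | e1 | e1
    · exact absurd e1 he1
    · exact (not_eighteen hC F0 (by rw [hNe, e1])).elim
    · exact e1
  -- a second basis vector in the class of the first
  obtain ⟨f, hf, hfa, hfc⟩ : ∃ f ∈ S, f ∉ zpowers a' ∧ IsConj a' f := by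
    by_contra hc
    push Not at hc
    have hinj : Nat.card {v : S // IsConj a' (v : G)} ≤ Nat.card (zpowers a') :=
      Nat.card_le_card_of_injective
        (fun v => (⟨(v.1 : G), by_contra fun hn => hc _ v.1.2 hn v.2⟩ : zpowers a'))
        fun x y hxy => Subtype.ext (Subtype.ext (congrArg (fun t : zpowers a' => (t : G)) hxy))
    rw [Nat.card_zpowers, h.orderOf_eq hga ha1] at hinj
    have : Nat.card {v : S // IsConj a' (v : G)} = 4 := he4
    omega
  let F : Frame S := ⟨a', f, hga, hf, ha1, hfa⟩
  have hcardA : (Finset.univ.filter fun r => IsConj a' (F.φ r)).card = 4 := by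
    rw [← F.card_sub h (fun v => IsConj a' v)]; exact he4
  have hsubA : Finset.univ.filter (fun r => inA r = true) ⊆
      Finset.univ.filter (fun r => IsConj a' (F.φ r)) := by
    intro r hr
    simp only [Finset.mem_filter, Finset.mem_univ, true_and] at hr ⊢
    simp only [inA, decide_eq_true_eq] at hr
    have hfr := hC.real _ hf
    rcases hr with rfl | rfl | rfl | rfl
    · rw [F.φ_e1]
    · rw [show F.φ (2, 0) = a'⁻¹ from eq_inv_of_mul_eq_one_left (by
        have := F.φ_add h (2, 0) (1, 0)
        rw [show ((2, 0) : Fin 3 × Fin 3) + (1, 0) = 0 by decide, F.φ_zero, F.φ_e1] at this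
        exact this.symm)]
      exact hC.real _ hga
    · rw [F.φ_e2]; exact hfc
    · rw [show F.φ (0, 2) = f⁻¹ from eq_inv_of_mul_eq_one_left (by
        have := F.φ_add h (0, 2) (0, 1)
        rw [show ((0, 2) : Fin 3 × Fin 3) + (0, 1) = 0 by decide, F.φ_zero, F.φ_e2] at this
        exact this.symm)]
      exact hfc.trans hfr
  have heq := Finset.eq_of_subset_of_card_le hsubA (by rw [hcardA]; decide +kernel)
  have h720 := le_720 hC F (by rw [← hN, hNe, he4]) fun p _ hp => by
    have := (Finset.ext_iff.mp heq p).mpr (Finset.mem_filter.mpr ⟨Finset.mem_univ _, hp⟩)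
    exact (Finset.mem_filter.mp this).2
  -- the order
  have hn3 : Nat.card G = N.index * 36 := by rw [← N.index_mul_card, hNe, he4]
  have hmod : N.index % 3 = 1 := by
    have := card_sylow_modEq_one 3 G
    rw [Sylow.card_eq_index_normalizer P] at this
    exact this
  have hrange := SmallSimple.Range.rangeLow hnc (by omega) (by omega)
  simp only [List.mem_cons, List.not_mem_nil, or_false] at hrange
  omega

end Cfsg.Agent.NineFrobenius
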