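import Mathlib

/-!
Pairs of elements of order three with product of order three: the relevant kernel is abelian.
-/

set_option autoImplicit false

namespace Cfsg.Agent.NineFrobenius

universe u

variable {G : Type u} [Group G]

open Subgroup

/-- The translations of two elements of order three with product of order three commute. -/
theorem triangle_rel {a b : G} (ha : a ^ 3 = 1) (hb : b ^ 3 = 1) (hab : (a * b) ^ 3 = 1) :
    Commute (a⁻¹ * b) (a * b * a) ∧ a * (a * b * a) * a⁻¹ = a⁻¹ * b ∧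
      a * (a⁻¹ * b) * a⁻¹ * ((a⁻¹ * b) * (a * b * a)) = 1 ∧ b * a⁻¹ = a * (a⁻¹ * b) * a⁻¹ := by
  have ha' : a * a = a⁻¹ := eq_inv_of_mul_eq_one_left (by rw [← ha]; simp [pow_succ, mul_assoc])
  have hb' : b * b = b⁻¹ := eq_inv_of_mul_eq_one_left (by rw [← hb]; simp [pow_succ, mul_assoc])
  have hba : b * a * b * a = a⁻¹ * b⁻¹ := by
    have h : a * b * (a * b) * (a * b) = 1 := by rw [← hab]; simp [pow_succ, mul_assoc]
    calc b * a * b * a = a⁻¹ * (a * b * (a * b) * (a * b)) * b⁻¹ := by group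
      _ = _ := by rw [h, mul_one]
  have e2 : a⁻¹ * b * (a * b * a) = a * b⁻¹ := by
    calc a⁻¹ * b * (a * b * a) = a⁻¹ * (b * a * b * a) := by group
      _ = a⁻¹ * (a⁻¹ * b⁻¹) := by rw [hba]
      _ = (a * a)⁻¹ * b⁻¹ := by group
      _ = _ := by rw [ha', inv_inv]
  have e3 : a * b * a * (a⁻¹ * b) = a * b⁻¹ := by
    rw [← hb']; group
  refine ⟨e2.trans e3.symm, ?_, ?_, by group⟩
  · calc a * (a * b * a) * a⁻¹ = a * a * b := by group
      _ = _ := by rw [ha']
  · rw [e2]; group

end Cfsg.Agent.NineFrobenius
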